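import Mathlib
import Cfsg.Prelude.Def_ClassicalGeometry
import Cfsg.Prelude.Def_GeometricClasses
import Cfsg.Agent.Lib.Helper18.T23.H2.SOTDefs
import Cfsg.Agent.Lib.Helper18.T23.H2.SOTGDefs
import Cfsg.Agent.Lib.Helper18.T23.H4.SOTS
import Cfsg.Agent.Lib.Helper7.SpTN
import Cfsg.Agent.Lib.Helper18.T23.H9.SOTX1
import Cfsg.Agent.Lib.Helper18.T23.H27.SOTLADefs

/-!
S5666 (LA) leaves U5: `kA_single_eq`, `uAel_eq`, `kA_mem_M`, `exists_kel_one_orth` (+ `kel_mem_M`, `uAel_mem_M`),
and the general block formula `ablk_uMat_gen` for `uMat`.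
-/

set_option autoImplicit false
set_option linter.unusedSectionVars false
set_option linter.unusedVariables false
set_option linter.unusedSimpArgs false

namespace Cfsg.Agent.Lib.Helper18.T23.H27.SOTLALeaf
open Matrix
open Cfsg.Agent.Lib.Helper25.Tens Cfsg.Agent.Lib.Helper25.SpT Cfsg.Agent.Lib.Helper19.OSub
open Cfsg.Agent.Lib.Helper18.T23.H2.SOT Cfsg.Agent.Lib.Helper18.T23.H27.SOTLA
open scoped Kronecker

variable {F : Type*} [Field F] [Fintype F] {a b : ℕ} {G : Matrix (Fin b) (Fin b) F}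
  {M : Subgroup (GL (Idx a b) F)}

/-- block of `E_{i',j'} ⊗ θ` -/
lemma ablk_single_kron (i' j' i j : Fin a) (θ : Matrix (Fin b) (Fin b) F) :
    ablk (Matrix.single i' j' (1 : F) ⊗ₖ θ) i j = if i' = i ∧ j' = j then θ else 0 := by
  rw [ablk_kron, Matrix.single_apply]
  split_ifs <;> simp

/-- the general block formula for `uMat` (no `Mid` hypotheses) -/
lemma ablk_uMat_gen (o o' : Fin a) (θ ρ : Fin a → Matrix (Fin b) (Fin b) F)
    (Ξ : Matrix (Fin b) (Fin b) F) (i j : Fin a) :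
    ablk (uMat o o' θ ρ Ξ) i j = (if i = j then 1 else 0) + (if j = o' then θ i else 0) +
      (if i = o then ρ j else 0) + (if i = o ∧ j = o' then Ξ else 0) := by
  unfold uMat
  rw [ablk_add, ablk_add, ablk_add, ablk_one, ablk_sum, ablk_sum, ablk_single_kron]
  congr 1
  · congr 1
    · congr 1
      rw [Finset.sum_congr rfl (fun m _ => ablk_single_kron m o' i j (θ m))]
      by_cases hj : j = o'
      · rw [if_pos hj, Finset.sum_eq_single i]
        · rw [if_pos ⟨rfl, hj.symm⟩]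
        · intro m _ hm
          rw [if_neg (fun h => hm h.1)]
        · intro h; exact absurd (Finset.mem_univ i) h
      · rw [if_neg hj]
        apply Finset.sum_eq_zero
        intro m _
        rw [if_neg (fun h => hj h.2.symm)]
    · rw [Finset.sum_congr rfl (fun m _ => ablk_single_kron o m i j (ρ m))]
      by_cases hi : i = o
      · rw [if_pos hi, Finset.sum_eq_single j]
        · rw [if_pos ⟨hi.symm, rfl⟩]
        · intro m _ hm
          rw [if_neg (fun h => hm h.2)]
        · intro h; exact absurd (Finset.mem_univ j) h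
      · rw [if_neg hi]
        apply Finset.sum_eq_zero
        intro m _
        rw [if_neg (fun h => hi h.1.symm)]
  · by_cases h : i = o ∧ j = o'
    · rw [if_pos h, if_pos ⟨h.1.symm, h.2.symm⟩]
    · rw [if_neg h, if_neg (fun h' => h ⟨h'.1.symm, h'.2.symm⟩)]

/-- the matrix of the symplectic transvection `stv y c` -/
lemma stv_val_apply (y : Fin a → F) (c : F) (i j : Fin a) :
    ((stv y c : GL (Fin a) F) : Matrix (Fin a) (Fin a) F) i j =
      (if i = j then 1 else 0) + c * y i * (∑ l, Jm a j l * y l) := by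
  unfold stv
  rw [tv_val, Matrix.add_apply, Matrix.one_apply, Matrix.vecMulVec_apply, sfv, Matrix.mulVec,
    dotProduct, Pi.smul_apply, smul_eq_mul]

/-- blocks of `kA x c` -/
lemma ablk_kA (x : Fin a → F) (c : F) (i j : Fin a) :
    ablk ((kA x c : GL (Idx a b) F) : Matrix (Idx a b) (Idx a b) F) i j =
      ((if i = j then 1 else 0) + c * x i * (∑ l, Jm a j l * x l)) •
        (1 : Matrix (Fin b) (Fin b) F) := by
  unfold kA
  rw [kel_val, ablk_kron, stv_val_apply, Units.val_one]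

/-- `Σ_l J(j,l) (e_o)_l = J(j,o)` -/
lemma sum_Jm_single (j o : Fin a) :
    (∑ l, (Jm a j l : F) * (Pi.single o (1 : F) : Fin a → F) l) = Jm a j o := by
  rw [Finset.sum_eq_single o]
  · rw [Pi.single_eq_same, mul_one]
  · intro l _ hl
    rw [Pi.single_eq_of_ne hl, mul_zero]
  · intro h; exact absurd (Finset.mem_univ o) h

/-- `J(j,o) = -1` if `j = o'`, else `0` (`o = 0`, `o' = 1`) -/
lemma Jm_col_o {o o' : Fin a} (ho : o.val = 0) (ho' : o'.val = 1) (j : Fin a) :
    (Jm a j o : F) = if j = o' then -1 else 0 := by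
  rw [Jm_apply]
  by_cases hj : j = o'
  · subst hj
    rw [if_pos rfl, if_neg (by omega), if_pos (by omega)]
  · rw [if_neg hj, if_neg (by omega)]
    have : j.val ≠ 1 := fun h => hj (Fin.ext (by omega))
    rw [if_neg (by omega)]

/-- (U5a) `kA e_o c = 1 - c • N`. -/
theorem kA_single_eq (ea : Even a) {o o' : Fin a} (ho : o.val = 0) (ho' : o'.val = 1) (c : F) :
    ((kA (Pi.single o 1) c : GL (Idx a b) F) : Matrix (Idx a b) (Idx a b) F) =
      uMat o o' 0 0 (-c • (1 : Matrix (Fin b) (Fin b) F)) := by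
  have hoo' : o ≠ o' := fun h => by rw [h] at ho; omega
  apply ext_ablk
  intro i j
  rw [ablk_kA, ablk_uMat_gen, sum_Jm_single, Jm_col_o ho ho']
  by_cases hi : i = o
  · by_cases hj : j = o'
    · have hij : i ≠ j := fun h => hoo' (by rw [← hi, ← hj, h])
      simp [hi, hj, hoo']
    · by_cases hij : i = j
      · have hoj : o = j := by rw [← hi, hij]
        simp [hi, hj, hoj]
      · have hoj : ¬ o = j := by rw [← hi]; exact hij
        simp [hi, hj, hoj]
  · by_cases hij : i = j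
    · by_cases hj : j = o'
      · have h1 : o' ≠ o := hoo'.symm
        simp [hi, hj, hij, h1, Pi.single_eq_of_ne h1]
      · simp [hi, hj, hij, Pi.single_eq_of_ne hi]
    · by_cases hj : j = o'
      · simp [hi, hj, hij, Pi.single_eq_of_ne hi]
      · simp [hi, hj, hij, Pi.single_eq_of_ne hi]

/-- (U5c) membership of Kronecker elements. -/
theorem kel_mem_M (h : MCtx a b G M) (α : GL (Fin a) F) (β : GL (Fin b) F) (μ ν : F)
    (hμν : μ * ν = 1)
    (hα : ∀ x x' : Fin a → F, sf ((α : Matrix (Fin a) (Fin a) F) *ᵥ x)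
      ((α : Matrix (Fin a) (Fin a) F) *ᵥ x') = μ * sf x x')
    (hβ : ∀ y y' : Fin b → F, fB G ((β : Matrix (Fin b) (Fin b) F) *ᵥ y)
      ((β : Matrix (Fin b) (Fin b) F) *ᵥ y') = ν * fB G y y') :
    (kel α β : GL (Idx a b) F) ∈ M :=
  h.le ⟨kel_mem_KG α β, Cfsg.Agent.Lib.Helper18.T23.H4.SOTLeaf.kel_mem_SpV G α β μ ν hμν hα hβ⟩

/-- (U5d) `kA x c ∈ M`. -/
theorem kA_mem_M (h : MCtx a b G M) (x : Fin a → F) (c : F) : (kA x c : GL (Idx a b) F) ∈ M :=
  h.le ⟨kA_mem_KG x c, Cfsg.Agent.Lib.Helper18.T23.H9.SOTLeaf.kA_mem_SpV G x c⟩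

theorem uAel_mem_M (h : MCtx a b G M) (o : Fin a) (w : Fin a → F) :
    (uAel o w : GL (Idx a b) F) ∈ M :=
  M.mul_mem (M.mul_mem (kA_mem_M h _ _) (kA_mem_M h _ _)) (kA_mem_M h _ _)

lemma uAel_stv_mulVec (e w : Fin a → F) (hw : sf w e = 0) (v : Fin a → F) :
    ((stv (e + w) 1 * stv e (-1) * stv w (-1) : GL (Fin a) F) : Matrix (Fin a) (Fin a) F) *ᵥ v
      = v + sf v e • w + sf v w • e := by
  have hew : sf e w = 0 := by rw [sf_skew, hw, neg_zero]
  rw [Units.val_mul, Units.val_mul, ← Matrix.mulVec_mulVec, ← Matrix.mulVec_mulVec, stv_mulVec,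
    stv_mulVec, stv_mulVec]
  simp only [sf_add_left, sf_smul_left, sf_add_right, sf_self, hw, hew]
  module

lemma pr_o {o o' : Fin a} (ea : Even a) (ho : o.val = 0) (ho' : o'.val = 1) : pr ea o = o' := by
  apply Fin.ext
  rw [pr_val_even ea o (by omega), ho, ho']

lemma pr_o' {o o' : Fin a} (ea : Even a) (ho : o.val = 0) (ho' : o'.val = 1) : pr ea o' = o := by
  rw [← pr_o ea ho ho', pr_pr]

lemma uAel_eq_kel (o : Fin a) (w : Fin a → F) :
    (uAel o w : GL (Idx a b) F) =
      kel (stv (Pi.single o 1 + w) 1 * stv (Pi.single o 1) (-1) * stv w (-1)) 1 := by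
  unfold uAel kA
  rw [← Cfsg.Agent.Lib.Helper7.SpTLeaf.kel_mul_kel, ← Cfsg.Agent.Lib.Helper7.SpTLeaf.kel_mul_kel,
    mul_one, mul_one]

/-- (U5b) the elements of `Y_x`. -/
theorem uAel_eq (ea : Even a) {o o' : Fin a} (ho : o.val = 0) (ho' : o'.val = 1) (w : Fin a → F)
    (hwo : w o = 0) (hwo' : w o' = 0) :
    ((uAel o w : GL (Idx a b) F) : Matrix (Idx a b) (Idx a b) F) =
      uMat o o' (fun i => -(w i) • (1 : Matrix (Fin b) (Fin b) F))
        (fun j => ((Jm a j (pr ea j) : F) * w (pr ea j)) • (1 : Matrix (Fin b) (Fin b) F)) 0 := by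
  have hoo' : o ≠ o' := fun h => by rw [h] at ho; omega
  have hw : sf w (Pi.single o (1 : F)) = 0 := by
    rw [sf_skew, sf_single_left' ea, pr_o ea ho ho', hwo', mul_zero, neg_zero]
  apply ext_ablk
  intro i j
  rw [uAel_eq_kel, kel_val, ablk_kron, ablk_uMat_gen, Units.val_one]
  have hent : ((stv (Pi.single o 1 + w) 1 * stv (Pi.single o 1) (-1) * stv w (-1) : GL (Fin a) F) :
      Matrix (Fin a) (Fin a) F) i j =
      (if i = j then 1 else 0) + (if j = o' then -(w i) else 0) +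
        (if i = o then (Jm a j (pr ea j) : F) * w (pr ea j) else 0) := by
    have h1 := congrFun (uAel_stv_mulVec (Pi.single o (1 : F)) w hw (Pi.single j 1)) i
    rw [Matrix.mulVec_single_one] at h1
    rw [Matrix.col_apply] at h1
    rw [h1, sf_single_single, Jm_col_o ho ho', sf_single_left' ea]
    simp only [Pi.add_apply, Pi.smul_apply, smul_eq_mul, Pi.single_apply]
    by_cases hj : j = o' <;> by_cases hi : i = o <;> by_cases hij : i = j <;>
      simp [hj, hi, hij]
  rw [hent]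
  by_cases hj : j = o' <;> by_cases hi : i = o <;> by_cases hij : i = j <;>
    simp [hj, hi, hij, add_smul]

/-- an orthogonal matrix preserves `fB` -/
lemma fB_of_isOrthB {β : Matrix (Fin b) (Fin b) F} (hβ : IsOrthB G β) (y y' : Fin b → F) :
    fB G (β *ᵥ y) (β *ᵥ y') = fB G y y' := by
  unfold fB
  unfold IsOrthB at hβ
  rw [Matrix.mulVec_mulVec, Matrix.dotProduct_mulVec, Matrix.vecMul_mulVec, ← Matrix.mul_assoc, hβ,
    ← Matrix.dotProduct_mulVec]

/-- an orthogonal matrix is invertible -/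
lemma det_ne_zero_of_isOrthB (hnd : G.det ≠ 0) {β : Matrix (Fin b) (Fin b) F} (hβ : IsOrthB G β) :
    β.det ≠ 0 := by
  intro h0
  unfold IsOrthB at hβ
  have := congrArg Matrix.det hβ
  rw [Matrix.det_mul, Matrix.det_mul, h0, mul_zero] at this
  exact hnd this.symm

/-- (U5e) an orthogonal matrix as a unit, and `1 ⊗ β ∈ M`. -/
theorem exists_kel_one_orth (h : MCtx a b G M) {β : Matrix (Fin b) (Fin b) F} (hβ : IsOrthB G β) :
    ∃ β' : GL (Fin b) F, (β' : Matrix (Fin b) (Fin b) F) = β ∧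
      (kel (1 : GL (Fin a) F) β' : GL (Idx a b) F) ∈ M := by
  refine ⟨Matrix.GeneralLinearGroup.mkOfDetNeZero β (det_ne_zero_of_isOrthB h.nd hβ), rfl, ?_⟩
  apply kel_mem_M h _ _ 1 1 (one_mul 1)
  · intro x x'
    rw [Units.val_one, Matrix.one_mulVec, Matrix.one_mulVec, one_mul]
  · intro y y'
    rw [one_mul]
    exact fB_of_isOrthB hβ y y'

end Cfsg.Agent.Lib.Helper18.T23.H27.SOTLALeaf
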