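import Mathlib
import Cfsg.Prelude.Def_ClassicalGeometry
import Cfsg.Prelude.Def_GeometricClasses
import Cfsg.Agent.Lib.Helper18.T23.H2.SOTDefs
import Cfsg.Agent.Lib.Helper18.T23.H2.SOTGDefs
import Cfsg.Agent.Lib.Helper18.T23.H4.SOTS
import Cfsg.Agent.Lib.Helper7.SpTN
import Cfsg.Agent.Lib.Helper18.T23.H4.SOTLAA8
import Cfsg.Agent.Lib.Helper18.T23.H27.SOTLADefs
import Cfsg.Agent.Lib.Helper18.T23.H27.SOTLAU5

/-!
S5666 (LA) leaf FC `L2_at`: the core, against the statements of `fc_caseA`, `fc_caseB` as hypotheses.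
-/

set_option autoImplicit false
set_option linter.unusedSectionVars false
set_option linter.unusedVariables false
set_option linter.unusedSimpArgs false

namespace Cfsg.Agent.Lib.Helper18.T23.H27.SOTLALeaf
open Matrix
open Cfsg.Agent.Lib.Helper25.Tens Cfsg.Agent.Lib.Helper25.SpT Cfsg.Agent.Lib.Helper19.OSub
open Cfsg.Agent.Lib.Helper18.T23.H2.SOT Cfsg.Agent.Lib.Helper18.T23.H27.SOTLA
open scoped Kronecker

variable {F : Type*} [Field F] [Fintype F] {a b : ℕ} {G : Matrix (Fin b) (Fin b) F}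
  {M : Subgroup (GL (Idx a b) F)}

/-- `(kA e_o c - 1)² = 0` -/
lemma kA_single_sub_one_sq (ea : Even a) {o o' : Fin a} (ho : o.val = 0) (ho' : o'.val = 1)
    (c : F) :
    (((kA (Pi.single o 1) c : GL (Idx a b) F) : Matrix (Idx a b) (Idx a b) F) - 1) *
      (((kA (Pi.single o 1) c : GL (Idx a b) F) : Matrix (Idx a b) (Idx a b) F) - 1) = 0 := by
  have hoo' : o ≠ o' := fun h => by rw [h] at ho; omega
  have hblk : ∀ i j : Fin a,
      ablk (((kA (Pi.single o 1) c : GL (Idx a b) F) : Matrix (Idx a b) (Idx a b) F) - 1) i j =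
        if i = o ∧ j = o' then -c • (1 : Matrix (Fin b) (Fin b) F) else 0 := by
    intro i j
    rw [kA_single_eq ea ho ho', ablk_sub, ablk_uMat_gen, ablk_one]
    simp
  apply ext_ablk
  intro i j
  rw [ablk_mul, ablk_zero]
  apply Finset.sum_eq_zero
  intro l _
  rw [hblk, hblk]
  by_cases h1 : i = o ∧ l = o'
  · rw [if_neg (fun h2 : l = o ∧ j = o' => hoo' (h2.1.symm.trans h1.2)), mul_zero]
  · rw [if_neg h1, zero_mul]

/-- conjugates of quadratic elements are quadratic -/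
lemma conj_sub_one_sq (m k : GL (Idx a b) F)
    (hk : ((k : Matrix (Idx a b) (Idx a b) F) - 1) * ((k : Matrix (Idx a b) (Idx a b) F) - 1) = 0) :
    (((m⁻¹ * k * m : GL (Idx a b) F) : Matrix (Idx a b) (Idx a b) F) - 1) *
      (((m⁻¹ * k * m : GL (Idx a b) F) : Matrix (Idx a b) (Idx a b) F) - 1) = 0 := by
  have h1 : (((m⁻¹ * k * m : GL (Idx a b) F) : Matrix (Idx a b) (Idx a b) F) - 1) =
      ((m⁻¹ : GL (Idx a b) F) : Matrix (Idx a b) (Idx a b) F) *
        ((k : Matrix (Idx a b) (Idx a b) F) - 1) * (m : Matrix (Idx a b) (Idx a b) F) := by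
    have hmm : ((m⁻¹ : GL (Idx a b) F) : Matrix (Idx a b) (Idx a b) F) *
        (m : Matrix (Idx a b) (Idx a b) F) = 1 := by
      rw [← Units.val_mul, inv_mul_cancel, Units.val_one]
    simp only [Units.val_mul]
    rw [Matrix.mul_sub, Matrix.sub_mul, Matrix.mul_one, hmm]
  rw [h1]
  calc ((m⁻¹ : GL (Idx a b) F) : Matrix (Idx a b) (Idx a b) F) *
        ((k : Matrix (Idx a b) (Idx a b) F) - 1) * (m : Matrix (Idx a b) (Idx a b) F) *
        (((m⁻¹ : GL (Idx a b) F) : Matrix (Idx a b) (Idx a b) F) *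
        ((k : Matrix (Idx a b) (Idx a b) F) - 1) * (m : Matrix (Idx a b) (Idx a b) F))
      = ((m⁻¹ : GL (Idx a b) F) : Matrix (Idx a b) (Idx a b) F) *
        (((k : Matrix (Idx a b) (Idx a b) F) - 1) *
          ((m : Matrix (Idx a b) (Idx a b) F) *
            ((m⁻¹ : GL (Idx a b) F) : Matrix (Idx a b) (Idx a b) F)) *
          ((k : Matrix (Idx a b) (Idx a b) F) - 1)) * (m : Matrix (Idx a b) (Idx a b) F) := by
        simp only [Matrix.mul_assoc]
    _ = 0 := by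
        rw [← Units.val_mul, mul_inv_cancel, Units.val_one, Matrix.mul_one, hk, Matrix.mul_zero,
          Matrix.zero_mul]

/-- (FC) core: `L2` at `e_o` from the two cases. -/
theorem L2_at_core (h : MCtx a b G M) {o o' : Fin a} (ho : o.val = 0) (ho' : o'.val = 1)
    (hA : ∀ {m : GL (Idx a b) F}, m ∈ M → ∀ α₂ : Matrix (Fin a) (Fin a) F,
      ((m⁻¹ * kA (Pi.single o 1) 1 * m : GL (Idx a b) F) : Matrix (Idx a b) (Idx a b) F) =
        α₂ ⊗ₖ (1 : Matrix (Fin b) (Fin b) F) → m ∈ KG a b F)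
    (hB : ∀ {m : GL (Idx a b) F}, m ∈ M → ∀ β₂ : Matrix (Fin b) (Fin b) F,
      ((m⁻¹ * kA (Pi.single o 1) 1 * m : GL (Idx a b) F) : Matrix (Idx a b) (Idx a b) F) =
        (1 : Matrix (Fin a) (Fin a) F) ⊗ₖ β₂ → False)
    {m : GL (Idx a b) F} (hm : m ∈ M)
    (hk : ∀ c : F, m⁻¹ * (kA (Pi.single o 1) c : GL (Idx a b) F) * m ∈ KG a b F) :
    m ∈ KG a b F := by
  obtain ⟨α₁, β₁, hk1⟩ := hk 1
  have hsq := conj_sub_one_sq m (kA (Pi.single o 1) 1) (kA_single_sub_one_sq h.ea ho ho' 1)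
  rw [hk1] at hsq
  rcases Cfsg.Agent.Lib.Helper18.T23.H4.SOTLALeaf.lemmaQU h.two _ _ hsq with ⟨c, hc⟩ | ⟨c, hc⟩
  · exfalso
    refine hB hm (c • (β₁ : Matrix (Fin b) (Fin b) F)) ?_
    rw [hk1, hc, Matrix.smul_kronecker, Matrix.kronecker_smul]
  · refine hA hm (c • (α₁ : Matrix (Fin a) (Fin a) F)) ?_
    rw [hk1, hc, Matrix.smul_kronecker, Matrix.kronecker_smul]

end Cfsg.Agent.Lib.Helper18.T23.H27.SOTLALeaf
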