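import Mathlib
import Cfsg.Prelude.Def_ClassicalGeometry
import Cfsg.Prelude.Def_GeometricClasses
import Cfsg.Agent.Lib.Helper18.T23.H2.SOTDefs
import Cfsg.Agent.Lib.Helper18.T23.H2.SOTGDefs
import Cfsg.Agent.Lib.Helper18.T23.H4.SOTS
import Cfsg.Agent.Lib.Helper7.SpTN
import Cfsg.Agent.Lib.Helper18.T23.H28.SOTLAR2a
import Cfsg.Agent.Lib.Helper18.T23.H27.SOTLADefs
import Cfsg.Agent.Lib.Helper18.T23.H27.SOTLAU5

/-!
S5666 (LA) leaf R2f `exists_levi`: the core, against the statements of `conj_N`, `mid_blocks`, `levi_UA`,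
`levi_symp` and the invertibility of `U`-form matrices as hypotheses.
-/

set_option autoImplicit false
set_option linter.unusedSectionVars false
set_option linter.unusedVariables false
set_option linter.unusedSimpArgs false

namespace Cfsg.Agent.Lib.Helper18.T23.H27.SOTLALeaf
open Matrix
open Cfsg.Agent.Lib.Helper25.Tens Cfsg.Agent.Lib.Helper25.SpT Cfsg.Agent.Lib.Helper19.OSub
open Cfsg.Agent.Lib.Helper18.T23.H2.SOT Cfsg.Agent.Lib.Helper18.T23.H27.SOTLA
open scoped Kronecker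

variable {F : Type*} [Field F] [Fintype F] {a b : ℕ} {G : Matrix (Fin b) (Fin b) F}
  {M : Subgroup (GL (Idx a b) F)}

/-- the Levi part of a matrix -/
def leviPart (o o' : Fin a) (X : Matrix (Idx a b) (Idx a b) F) : Matrix (Idx a b) (Idx a b) F :=
  fun p q => if (p.1 = o ∧ q.1 = o) ∨ (p.1 = o' ∧ q.1 = o') ∨
    (p.1 ≠ o ∧ p.1 ≠ o' ∧ q.1 ≠ o ∧ q.1 ≠ o') then X p q else 0

lemma ablk_leviPart (o o' : Fin a) (X : Matrix (Idx a b) (Idx a b) F) (i j : Fin a) :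
    ablk (leviPart o o' X) i j =
      if (i = o ∧ j = o) ∨ (i = o' ∧ j = o') ∨ (i ≠ o ∧ i ≠ o' ∧ j ≠ o ∧ j ≠ o') then ablk X i j
      else 0 := by
  ext k l
  by_cases hp : (i = o ∧ j = o) ∨ (i = o' ∧ j = o') ∨ (i ≠ o ∧ i ≠ o' ∧ j ≠ o ∧ j ≠ o')
  · rw [if_pos hp]
    show (if _ then _ else _) = _
    rw [if_pos hp]
    rfl
  · rw [if_neg hp]
    show (if _ then _ else _) = _
    rw [if_neg hp]
    rfl

/-- (R2f) core. -/
theorem exists_levi_core (h : MCtx a b G M) {o o' : Fin a} (ho : o.val = 0) (ho' : o'.val = 1)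
    (hconjN : ∀ {g : GL (Idx a b) F}, g ∈ M →
      (∀ y : Fin b → F, ∃ y' : Fin b → F,
        mv g (pt (Pi.single o 1) y) = pt (Pi.single o 1) y') →
      ∃ c : F, c ≠ 0 ∧
        (g : Matrix (Idx a b) (Idx a b) F) * EN o o' *
          ((g⁻¹ : GL (Idx a b) F) : Matrix (Idx a b) (Idx a b) F) = c • EN o o' ∧
        ablk (g : Matrix (Idx a b) (Idx a b) F) o o =
          c • ablk (g : Matrix (Idx a b) (Idx a b) F) o' o')
    (hmid : ∀ {g : GL (Idx a b) F}, g ∈ M →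
      (∀ y : Fin b → F, ∃ y' : Fin b → F,
        mv g (pt (Pi.single o 1) y) = pt (Pi.single o 1) y') →
      ∀ i j : Fin a, i ≠ o → i ≠ o' → j ≠ o → j ≠ o' →
        ∃ c : F, ablk (g : Matrix (Idx a b) (Idx a b) F) i j =
          c • ablk (g : Matrix (Idx a b) (Idx a b) F) o' o')
    (hleviUA : ∀ (g : GL (Idx a b) F),
      (∀ i : Fin a, i ≠ o → ablk (g : Matrix (Idx a b) (Idx a b) F) i o = 0) →
      (∀ j : Fin a, j ≠ o' → ablk (g : Matrix (Idx a b) (Idx a b) F) o' j = 0) →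
      (∀ j : Fin a, j ≠ o' →
        ablk ((g⁻¹ : GL (Idx a b) F) : Matrix (Idx a b) (Idx a b) F) o' j = 0) →
      (∀ i : Fin a, i ≠ o →
        ablk ((g⁻¹ : GL (Idx a b) F) : Matrix (Idx a b) (Idx a b) F) i o = 0) →
      ∀ (K : Matrix (Idx a b) (Idx a b) F),
      (∀ i j : Fin a, ablk K i j =
        if (i = o ∧ j = o) ∨ (i = o' ∧ j = o') ∨ (i ≠ o ∧ i ≠ o' ∧ j ≠ o ∧ j ≠ o') then
          ablk ((g⁻¹ : GL (Idx a b) F) : Matrix (Idx a b) (Idx a b) F) i j else 0) →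
      UA o o' ((g : Matrix (Idx a b) (Idx a b) F) * K))
    (hleviS : ∀ (g' : GL (Idx a b) F), g' ∈ SpV G →
      (∀ i : Fin a, i ≠ o → ablk (g' : Matrix (Idx a b) (Idx a b) F) i o = 0) →
      (∀ j : Fin a, j ≠ o' → ablk (g' : Matrix (Idx a b) (Idx a b) F) o' j = 0) →
      ∀ (K : Matrix (Idx a b) (Idx a b) F),
      (∀ i j : Fin a, ablk K i j =
        if (i = o ∧ j = o) ∨ (i = o' ∧ j = o') ∨ (i ≠ o ∧ i ≠ o' ∧ j ≠ o ∧ j ≠ o') then
          ablk (g' : Matrix (Idx a b) (Idx a b) F) i j else 0) →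
      ∀ v w : Idx a b → F, fV G (K *ᵥ v) (K *ᵥ w) = fV G v w)
    (hUinv : ∀ X : Matrix (Idx a b) (Idx a b) F, UA o o' X →
      ∃ Y : Matrix (Idx a b) (Idx a b) F, X * Y = 1)
    {g : GL (Idx a b) F} (hgM : g ∈ M)
    (hg : ∀ y : Fin b → F, ∃ y' : Fin b → F, mv g (pt (Pi.single o 1) y) = pt (Pi.single o 1) y') :
    ∃ k : GL (Idx a b) F, k ∈ KG a b F ⊓ SpV G ∧
      UA o o' ((g * k : GL (Idx a b) F) : Matrix (Idx a b) (Idx a b) F) := by
  have hoo' : o ≠ o' := fun h' => by rw [h'] at ho; omega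
  have hgS : g ∈ SpV G := h.le_sp hgM
  have hg'M : g⁻¹ ∈ M := M.inv_mem hgM
  have hg'S : g⁻¹ ∈ SpV G := h.le_sp hg'M
  obtain ⟨hg1, hg', -⟩ := Cfsg.Agent.Lib.Helper18.T23.H28.SOTLALeaf.stab_blocks g hg
  obtain ⟨hg4, -, -⟩ := Cfsg.Agent.Lib.Helper18.T23.H28.SOTLALeaf.stab_blocks g⁻¹ hg'
  obtain ⟨hg2, -⟩ := Cfsg.Agent.Lib.Helper18.T23.H28.SOTLALeaf.stab_perp_blocks h.ea h.symm h.nd ho ho' g
    hgS hg
  obtain ⟨hg3, -⟩ := Cfsg.Agent.Lib.Helper18.T23.H28.SOTLALeaf.stab_perp_blocks h.ea h.symm h.nd ho ho'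
    g⁻¹ hg'S hg'
  -- the Levi part
  set X' : Matrix (Idx a b) (Idx a b) F :=
    ((g⁻¹ : GL (Idx a b) F) : Matrix (Idx a b) (Idx a b) F) with hX'
  set K : Matrix (Idx a b) (Idx a b) F := leviPart o o' X' with hKdef
  have hK := ablk_leviPart o o' X'
  have hUA : UA o o' ((g : Matrix (Idx a b) (Idx a b) F) * K) := hleviUA g hg1 hg2 hg3 hg4 K hK
  -- `K` is invertible
  obtain ⟨Y, hY⟩ := hUinv _ hUA
  have hKY : K * (Y * (g : Matrix (Idx a b) (Idx a b) F)) = 1 := by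
    have h1 : X' * ((g : Matrix (Idx a b) (Idx a b) F) * K * Y) *
        (g : Matrix (Idx a b) (Idx a b) F) = 1 := by
      rw [hY, Matrix.mul_one, hX', ← Units.val_mul, inv_mul_cancel, Units.val_one]
    have h2 : X' * (g : Matrix (Idx a b) (Idx a b) F) = 1 := by
      rw [hX', ← Units.val_mul, inv_mul_cancel, Units.val_one]
    calc K * (Y * (g : Matrix (Idx a b) (Idx a b) F))
        = (X' * (g : Matrix (Idx a b) (Idx a b) F)) * K * Y *
            (g : Matrix (Idx a b) (Idx a b) F) := by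
          rw [h2, Matrix.one_mul, Matrix.mul_assoc]
      _ = X' * ((g : Matrix (Idx a b) (Idx a b) F) * K * Y) *
            (g : Matrix (Idx a b) (Idx a b) F) := by
          simp only [Matrix.mul_assoc]
      _ = 1 := h1
  have hKdet : K.det ≠ 0 := by
    intro h0
    have := congrArg Matrix.det hKY
    rw [Matrix.det_mul, h0, zero_mul, Matrix.det_one] at this
    exact zero_ne_one this
  -- `K = α' ⊗ δ`
  obtain ⟨c'', hc''0, -, hc''⟩ := hconjN hg'M hg'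
  have hmid' : ∀ i j : Fin a, ∃ c : F, i ≠ o → i ≠ o' → j ≠ o → j ≠ o' →
      ablk X' i j = c • ablk X' o' o' := by
    intro i j
    by_cases hp : i ≠ o ∧ i ≠ o' ∧ j ≠ o ∧ j ≠ o'
    · obtain ⟨c, hc⟩ := hmid hg'M hg' i j hp.1 hp.2.1 hp.2.2.1 hp.2.2.2
      exact ⟨c, fun _ _ _ _ => hc⟩
    · exact ⟨0, fun h1 h2 h3 h4 => absurd ⟨h1, h2, h3, h4⟩ hp⟩
  choose φ hφ using hmid'
  set δ : Matrix (Fin b) (Fin b) F := ablk X' o' o' with hδ
  set α' : Matrix (Fin a) (Fin a) F := fun i j =>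
    if i = o ∧ j = o then c'' else if i = o' ∧ j = o' then 1
    else if i ≠ o ∧ i ≠ o' ∧ j ≠ o ∧ j ≠ o' then φ i j else 0 with hα'
  have hKkron : K = α' ⊗ₖ δ := by
    apply ext_ablk
    intro i j
    rw [hK, ablk_kron]
    by_cases h1 : i = o ∧ j = o
    · have : α' i j = c'' := by rw [hα']; simp only; rw [if_pos h1]
      rw [if_pos (Or.inl h1), this, h1.1, h1.2, hc'']
    · by_cases h2 : i = o' ∧ j = o'
      · have : α' i j = 1 := by rw [hα']; simp only; rw [if_neg h1, if_pos h2]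
        rw [if_pos (Or.inr (Or.inl h2)), this, h2.1, h2.2, one_smul]
      · by_cases h3 : i ≠ o ∧ i ≠ o' ∧ j ≠ o ∧ j ≠ o'
        · have : α' i j = φ i j := by rw [hα']; simp only; rw [if_neg h1, if_neg h2, if_pos h3]
          rw [if_pos (Or.inr (Or.inr h3)), this]
          exact hφ i j h3.1 h3.2.1 h3.2.2.1 h3.2.2.2
        · have : α' i j = 0 := by rw [hα']; simp only; rw [if_neg h1, if_neg h2, if_neg h3]
          rw [if_neg (by tauto), this, zero_smul]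
  have hdet : α'.det ^ b * δ.det ^ a ≠ 0 := by
    have := hKdet
    rw [hKkron, Matrix.det_kronecker, Fintype.card_fin, Fintype.card_fin] at this
    exact this
  have hαdet : α'.det ≠ 0 := fun h0 => by
    apply hdet
    rw [h0, zero_pow (by have := h.hb; omega), zero_mul]
  have hδdet : δ.det ≠ 0 := fun h0 => by
    apply hdet
    rw [h0, zero_pow (by have := h.ha; omega), mul_zero]
  set k : GL (Idx a b) F := kel (Matrix.GeneralLinearGroup.mkOfDetNeZero α' hαdet)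
    (Matrix.GeneralLinearGroup.mkOfDetNeZero δ hδdet) with hk
  have hkval : (k : Matrix (Idx a b) (Idx a b) F) = K := by
    rw [hk, kel_val, hKkron]
    rfl
  refine ⟨k, Subgroup.mem_inf.mpr ⟨kel_mem_KG _ _, ?_⟩, ?_⟩
  · rw [mem_SpV]
    intro v w
    have := hleviS g⁻¹ hg'S hg4 hg3 K hK v w
    unfold mv
    rw [hkval]
    exact this
  · rw [Units.val_mul, hkval]
    exact hUA

end Cfsg.Agent.Lib.Helper18.T23.H27.SOTLALeaf
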