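import Mathlib
import Cfsg.Prelude.Def_ClassicalGeometry
import Cfsg.Prelude.Def_GeometricClasses
import Cfsg.Agent.Lib.Helper18.T23.H2.SOTDefs
import Cfsg.Agent.Lib.Helper18.T23.H2.SOTGDefs
import Cfsg.Agent.Lib.Helper18.T23.H4.SOTS
import Cfsg.Agent.Lib.Helper7.SpTN
import Cfsg.Agent.Lib.Helper18.T23.H6.SOTLAU1
import Cfsg.Agent.Lib.Helper18.T23.H6.SOTLAU2
import Cfsg.Agent.Lib.Helper18.T23.H6.SOTLAR2e
import Cfsg.Agent.Lib.Helper18.T23.H27.SOTLADefs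
import Cfsg.Agent.Lib.Helper18.T23.H27.SOTLAR2fcore

/-!
S5666 (LA) leaf R2f `exists_levi`: from the statements of `conj_N` and `mid_blocks` only
(`levi_UA`, `levi_symp`, invertibility of `U`-form matrices: helper6's landed leaves).
-/

set_option autoImplicit false
set_option linter.unusedSectionVars false
set_option linter.unusedVariables false

namespace Cfsg.Agent.Lib.Helper18.T23.H27.SOTLALeaf
open Matrix
open Cfsg.Agent.Lib.Helper25.Tens Cfsg.Agent.Lib.Helper25.SpT Cfsg.Agent.Lib.Helper19.OSub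
open Cfsg.Agent.Lib.Helper18.T23.H2.SOT Cfsg.Agent.Lib.Helper18.T23.H27.SOTLA
open scoped Kronecker

variable {F : Type*} [Field F] [Fintype F] {a b : ℕ} {G : Matrix (Fin b) (Fin b) F}
  {M : Subgroup (GL (Idx a b) F)}

/-- `U`-form matrices are invertible -/
lemma UA_right_inv {o o' : Fin a} (hoo' : o ≠ o') (X : Matrix (Idx a b) (Idx a b) F)
    (hX : UA o o' X) : ∃ Y : Matrix (Idx a b) (Idx a b) F, X * Y = 1 := by
  obtain ⟨θ, ρ, Ξ, hθ, hρ, rfl⟩ := Cfsg.Agent.Lib.Helper18.T23.H6.SOTLALeaf.exists_uMat_of_UA hoo' hX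
  exact ⟨_, Cfsg.Agent.Lib.Helper18.T23.H6.SOTLALeaf.uMat_mul_inv hoo' hθ hρ⟩

/-- (R2f) from `conj_N` and `mid_blocks`. -/
theorem exists_levi_of (h : MCtx a b G M) {o o' : Fin a} (ho : o.val = 0) (ho' : o'.val = 1)
    (hconjN : ∀ {g : GL (Idx a b) F}, g ∈ M →
      (∀ y : Fin b → F, ∃ y' : Fin b → F,
        mv g (pt (Pi.single o 1) y) = pt (Pi.single o 1) y') →
      ∃ c : F, c ≠ 0 ∧
        (g : Matrix (Idx a b) (Idx a b) F) * EN o o' *
          ((g⁻¹ : GL (Idx a b) F) : Matrix (Idx a b) (Idx a b) F) = c • EN o o' ∧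
        ablk (g : Matrix (Idx a b) (Idx a b) F) o o =
          c • ablk (g : Matrix (Idx a b) (Idx a b) F) o' o')
    (hmid : ∀ {g : GL (Idx a b) F}, g ∈ M →
      (∀ y : Fin b → F, ∃ y' : Fin b → F,
        mv g (pt (Pi.single o 1) y) = pt (Pi.single o 1) y') →
      ∀ i j : Fin a, i ≠ o → i ≠ o' → j ≠ o → j ≠ o' →
        ∃ c : F, ablk (g : Matrix (Idx a b) (Idx a b) F) i j =
          c • ablk (g : Matrix (Idx a b) (Idx a b) F) o' o')
    {g : GL (Idx a b) F} (hgM : g ∈ M)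
    (hg : ∀ y : Fin b → F, ∃ y' : Fin b → F, mv g (pt (Pi.single o 1) y) = pt (Pi.single o 1) y') :
    ∃ k : GL (Idx a b) F, k ∈ KG a b F ⊓ SpV G ∧
      UA o o' ((g * k : GL (Idx a b) F) : Matrix (Idx a b) (Idx a b) F) := by
  have hoo' : o ≠ o' := fun h' => by rw [h'] at ho; omega
  exact exists_levi_core h ho ho' hconjN hmid
    (fun g hg1 hg2 hg3 hg4 K hK =>
      Cfsg.Agent.Lib.Helper18.T23.H6.SOTLALeaf.levi_UA hoo' g hg1 hg2 hg3 hg4 K hK)
    (fun g' hS h1 h2 K hK =>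
      Cfsg.Agent.Lib.Helper18.T23.H6.SOTLALeaf.levi_symp h.ea ho ho' g' hS h1 h2 K hK)
    (UA_right_inv hoo') hgM hg

end Cfsg.Agent.Lib.Helper18.T23.H27.SOTLALeaf
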