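import Mathlib
import Cfsg.Prelude.Def_ClassicalGeometry
import Cfsg.Prelude.Def_GeometricClasses
import Cfsg.Agent.Lib.Helper18.T23.H2.SOTDefs
import Cfsg.Agent.Lib.Helper18.T23.H2.SOTGDefs
import Cfsg.Agent.Lib.Helper18.T23.H4.SOTS
import Cfsg.Agent.Lib.Helper7.SpTN
import Cfsg.Agent.Lib.Helper18.T23.H11.SOTLAT
import Cfsg.Agent.Lib.Helper18.T23.H13.SOTLAR2c
import Cfsg.Agent.Lib.Helper18.T23.H13.SOTLAR2d
import Cfsg.Agent.Lib.Helper18.T23.H27.SOTLADefs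
import Cfsg.Agent.Lib.Helper18.T23.H27.SOTLAFCcore
import Cfsg.Agent.Lib.Helper18.T23.H27.SOTLAR2fcore2

/-!
S5666 (LA): the assembly of `local_L1`, `local_L2` from the six statements still pending
(`R1`, `R1plus`, `UA_mem_KG`, `UA_sq_zero`, `fc_caseA`, `fc_caseB`) as hypotheses.
-/

set_option autoImplicit false
set_option linter.unusedSectionVars false
set_option linter.unusedVariables false

namespace Cfsg.Agent.Lib.Helper18.T23.H27.SOTLALeaf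
open Matrix
open Cfsg.Agent.Lib.Helper25.Tens Cfsg.Agent.Lib.Helper25.SpT Cfsg.Agent.Lib.Helper19.OSub
open Cfsg.Agent.Lib.Helper18.T23.H2.SOT Cfsg.Agent.Lib.Helper18.T23.H27.SOTLA
open scoped Kronecker

variable {F : Type*} [Field F] [Fintype F] {a b : ℕ} {G : Matrix (Fin b) (Fin b) F}
  {M : Subgroup (GL (Idx a b) F)}

/-- (R2) = `L1` at `e_o`, from `R1`, `R1plus`, `UA_mem_KG`. -/
theorem L1_at_of (h : MCtx a b G M) {o o' : Fin a} (ho : o.val = 0) (ho' : o'.val = 1)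
    (hR1 : ∀ σ : Matrix (Fin b) (Fin b) F, InM M (uMat o o' 0 0 σ) → IsScal σ)
    (hR1p : ∀ (θ ρ : Fin a → Matrix (Fin b) (Fin b) F) (Ξ : Matrix (Fin b) (Fin b) F),
      Mid o o' θ → Mid o o' ρ → InM M (uMat o o' θ ρ Ξ) →
        (∀ i, IsScal (θ i)) ∧ (∀ j, IsScal (ρ j)) ∧ IsScal Ξ)
    (hKG : ∀ {g : GL (Idx a b) F}, g ∈ M → UA o o' (g : Matrix (Idx a b) (Idx a b) F) →
      g ∈ KG a b F)
    {g : GL (Idx a b) F} (hgM : g ∈ M)
    (hg : ∀ y : Fin b → F, ∃ y' : Fin b → F, mv g (pt (Pi.single o 1) y) = pt (Pi.single o 1) y') :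
    g ∈ KG a b F := by
  obtain ⟨k, hk, hU⟩ := exists_levi_of h ho ho'
    (fun {g} hgM hg => Cfsg.Agent.Lib.Helper18.T23.H13.SOTLALeaf.conj_N_core h ho ho' hR1 hgM hg)
    (fun {g} hgM hg => Cfsg.Agent.Lib.Helper18.T23.H13.SOTLALeaf.mid_blocks_of h ho ho' hR1 hR1p hgM hg)
    hgM hg
  have hgk : g * k ∈ M := M.mul_mem hgM (h.le hk)
  have h1 := hKG hgk hU
  have h2 : g = (g * k) * k⁻¹ := by group
  rw [h2]
  exact (KG a b F).mul_mem h1 ((KG a b F).inv_mem hk.1)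

/-- `L1` from `L1` at `e_o`. -/
theorem local_L1_of (h : MCtx a b G M) (h4 : 2 ≤ a)
    (hat : ∀ {g : GL (Idx a b) F}, g ∈ M →
      (∀ y : Fin b → F, ∃ y' : Fin b → F,
        mv g (pt (Pi.single (⟨0, by omega⟩ : Fin a) 1) y) =
          pt (Pi.single (⟨0, by omega⟩ : Fin a) 1) y') → g ∈ KG a b F) : L1 M := by
  intro x hx g hgM hg
  obtain ⟨α, hα, hαx⟩ := Cfsg.Agent.Lib.Helper7.SpTLeaf.sp_trans h.ea (⟨0, by omega⟩ : Fin a) x hx
  have hhM : (kel α (1 : GL (Fin b) F) : GL (Idx a b) F) ∈ M :=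
    Cfsg.Agent.Lib.Helper18.T23.H11.SOTLALeaf.kel_spT_mem h α hα
  have hhK : (kel α (1 : GL (Fin b) F) : GL (Idx a b) F) ∈ KG a b F := kel_mem_KG α 1
  have hmv : ∀ y : Fin b → F, mv (kel α (1 : GL (Fin b) F) : GL (Idx a b) F)
      (pt (Pi.single (⟨0, by omega⟩ : Fin a) 1) y) = pt x y := by
    intro y
    rw [Cfsg.Agent.Lib.Helper18.T23.H4.SOTLeaf.mv_kel_pt, hαx, Units.val_one, Matrix.one_mulVec]
  have hmvi : ∀ y : Fin b → F, mv (kel α (1 : GL (Fin b) F) : GL (Idx a b) F)⁻¹ (pt x y) =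
      pt (Pi.single (⟨0, by omega⟩ : Fin a) 1) y := by
    intro y
    rw [← hmv y, ← mv_mul, inv_mul_cancel, mv_one]
  have key : ∀ y : Fin b → F, ∃ y' : Fin b → F,
      mv ((kel α (1 : GL (Fin b) F) : GL (Idx a b) F)⁻¹ * g * kel α 1)
        (pt (Pi.single (⟨0, by omega⟩ : Fin a) 1) y) =
          pt (Pi.single (⟨0, by omega⟩ : Fin a) 1) y' := by
    intro y
    obtain ⟨y', hy'⟩ := hg y
    exact ⟨y', by rw [mv_mul, mv_mul, hmv, hy', hmvi]⟩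
  have hK := hat (M.mul_mem (M.mul_mem (M.inv_mem hhM) hgM) hhM) key
  have : g = kel α 1 * ((kel α (1 : GL (Fin b) F) : GL (Idx a b) F)⁻¹ * g * kel α 1) *
      (kel α 1)⁻¹ := by group
  rw [this]
  exact (KG a b F).mul_mem ((KG a b F).mul_mem hhK hK) ((KG a b F).inv_mem hhK)

/-- `L2` from `L2` at `e_o`. -/
theorem local_L2_of (h : MCtx a b G M) (h4 : 2 ≤ a)
    (hat : ∀ {m : GL (Idx a b) F}, m ∈ M →
      (∀ c : F, m⁻¹ * (kA (Pi.single (⟨0, by omega⟩ : Fin a) 1) c : GL (Idx a b) F) * m ∈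
        KG a b F) → m ∈ KG a b F) : L2 M := by
  intro x hx m hmM hm
  obtain ⟨α, hα, hαx⟩ := Cfsg.Agent.Lib.Helper7.SpTLeaf.sp_trans h.ea (⟨0, by omega⟩ : Fin a) x hx
  have hhM : (kel α (1 : GL (Fin b) F) : GL (Idx a b) F) ∈ M :=
    Cfsg.Agent.Lib.Helper18.T23.H11.SOTLALeaf.kel_spT_mem h α hα
  have hhK : (kel α (1 : GL (Fin b) F) : GL (Idx a b) F) ∈ KG a b F := kel_mem_KG α 1
  have key : ∀ c : F, ((kel α (1 : GL (Fin b) F) : GL (Idx a b) F)⁻¹ * m)⁻¹ *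
      (kA (Pi.single (⟨0, by omega⟩ : Fin a) 1) c : GL (Idx a b) F) *
      ((kel α (1 : GL (Fin b) F) : GL (Idx a b) F)⁻¹ * m) ∈ KG a b F := by
    intro c
    have h1 := hm c
    rw [← hαx, ← Cfsg.Agent.Lib.Helper18.T23.H11.SOTLALeaf.kel_spT_conj_kA (b := b) α hα] at h1
    have : ((kel α (1 : GL (Fin b) F) : GL (Idx a b) F)⁻¹ * m)⁻¹ *
        (kA (Pi.single (⟨0, by omega⟩ : Fin a) 1) c : GL (Idx a b) F) *
        ((kel α (1 : GL (Fin b) F) : GL (Idx a b) F)⁻¹ * m) =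
        m⁻¹ * ((kel α (1 : GL (Fin b) F) : GL (Idx a b) F) *
          kA (Pi.single (⟨0, by omega⟩ : Fin a) 1) c * (kel α 1)⁻¹) * m := by group
    rw [this]
    exact h1
  have hK := hat (M.mul_mem (M.inv_mem hhM) hmM) key
  have : m = kel α 1 * ((kel α (1 : GL (Fin b) F) : GL (Idx a b) F)⁻¹ * m) := by group
  rw [this]
  exact (KG a b F).mul_mem hhK hK

end Cfsg.Agent.Lib.Helper18.T23.H27.SOTLALeaf
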